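import Cfsg.Agent.Lib.InvChar.SporData.HN.T352.F0
import Cfsg.Agent.Lib.InvChar.SporData.HN.T352.F1
import Cfsg.Agent.Lib.InvChar.SporData.HN.T352.F2
import Cfsg.Agent.Lib.InvChar.SporData.HN.T352.F3
import Cfsg.Agent.Lib.InvChar.SporData.HN.T352.F4
import Cfsg.Agent.Lib.InvChar.SporData.HN.T352.F5

/-! The assembled certificate. -/

set_option autoImplicit false
set_option maxRecDepth 100000

namespace CfsgLib.InvChar.SporHN.T352

open CfsgLib.InvChar.Coset CfsgLib.KnownA

theorem facts_ok : ∀ j < 345, cert.chkRun 128 (j * 128) (cert.just.get j) = true := by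
  intro j hj
  rcases Nat.lt_or_ge j 60 with h0 | h0
  · obtain ⟨t, rfl⟩ : ∃ t, j = 0 + t := ⟨j - 0, by omega⟩
    exact cert.chkBlocks_get 60 0 chk_facts0 t (by omega)
  rcases Nat.lt_or_ge j 120 with h1 | h1
  · obtain ⟨t, rfl⟩ : ∃ t, j = 60 + t := ⟨j - 60, by omega⟩
    exact cert.chkBlocks_get 60 60 chk_facts1 t (by omega)
  rcases Nat.lt_or_ge j 180 with h2 | h2
  · obtain ⟨t, rfl⟩ : ∃ t, j = 120 + t := ⟨j - 120, by omega⟩
    exact cert.chkBlocks_get 60 120 chk_facts2 t (by omega)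
  rcases Nat.lt_or_ge j 240 with h3 | h3
  · obtain ⟨t, rfl⟩ : ∃ t, j = 180 + t := ⟨j - 180, by omega⟩
    exact cert.chkBlocks_get 60 180 chk_facts3 t (by omega)
  rcases Nat.lt_or_ge j 300 with h4 | h4
  · obtain ⟨t, rfl⟩ : ∃ t, j = 240 + t := ⟨j - 240, by omega⟩
    exact cert.chkBlocks_get 60 240 chk_facts4 t (by omega)
  rcases Nat.lt_or_ge j 345 with h5 | h5
  · obtain ⟨t, rfl⟩ : ∃ t, j = 300 + t := ⟨j - 300, by omega⟩
    exact cert.chkBlocks_get 45 300 chk_facts5 t (by omega)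
  omega

theorem chk_rows : cert.chkRows table live fin 352 0 = true := by decide +kernel

theorem covered : CosetInv.Covered cert table live fin where
  hn := by decide +kernel
  ivlt := by decide +kernel
  facts := ⟨345, by decide +kernel, facts_ok⟩
  rows := fun i hi => cert.chkRows_get 352 0 chk_rows i (Nat.zero_le _) (lt_of_lt_of_le hi (Nat.le_add_left _ _))
  root := by decide +kernel

end CfsgLib.InvChar.SporHN.T352
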